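import Groth.Agent.Lib.DblCx16.Basic
import Mathlib.Algebra.Homology.ShortComplex.Ab

/-! Augmented double complexes and cones. -/

universe u

open CategoryTheory

set_option autoImplicit false

namespace Groth.Agent.DblCx16

/-- An additive map on the middle terms inducing an isomorphism of homology. -/
theorem nonempty_homology_iso (S T : ShortComplex AddCommGrpCat.{u}) (f : S.X₂ →+ T.X₂)
    (hc : ∀ x, S.g x = 0 → T.g (f x) = 0)
    (hsurj : ∀ y, T.g y = 0 → ∃ x, S.g x = 0 ∧ ∃ b, T.f b = y - f x)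
    (hker : ∀ x, S.g x = 0 → ((∃ b, T.f b = f x) ↔ ∃ b, S.f b = x)) :
    Nonempty (S.homology ≅ T.homology) := by
  let φ : S.g.hom.ker →+ T.g.hom.ker ⧸ T.abToCycles.range :=
    (QuotientAddGroup.mk' _).comp ((f.comp S.g.hom.ker.subtype).codRestrict _ fun x => hc x x.2)
  have hsφ : Function.Surjective φ := fun z => by
    obtain ⟨⟨y, hy⟩, rfl⟩ := QuotientAddGroup.mk'_surjective _ z
    obtain ⟨x, hx, b, hb⟩ := hsurj y hy
    refine ⟨⟨x, hx⟩, (QuotientAddGroup.eq).2 ⟨b, Subtype.ext ?_⟩⟩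
    show T.f b = -(f x) + y
    rw [hb]
    abel
  have hkφ : φ.ker = S.abToCycles.range := by
    ext ⟨x, hx⟩
    constructor
    · intro h
      obtain ⟨b, hb⟩ := (QuotientAddGroup.eq_zero_iff _).1 h
      obtain ⟨c, hc'⟩ := (hker x hx).1 ⟨b, congrArg Subtype.val hb⟩
      exact ⟨c, Subtype.ext hc'⟩
    · rintro ⟨c, hc'⟩
      obtain ⟨b, hb⟩ := (hker x hx).2 ⟨c, congrArg Subtype.val hc'⟩
      exact (QuotientAddGroup.eq_zero_iff _).2 ⟨b, Subtype.ext hb⟩
  exact ⟨S.abHomologyIso ≪≫
    AddEquiv.toAddCommGrpIso (X := AddCommGrpCat.of _) (Y := AddCommGrpCat.of _)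
      ((QuotientAddGroup.quotientAddEquivOfEq hkφ.symm).trans
        (QuotientAddGroup.quotientKerEquivOfSurjective φ hsφ)) ≪≫ T.abHomologyIso.symm⟩

variable (M : Dbl.{u})

/-- A column. -/
def col (p : ℕ) : CochainComplex AddCommGrpCat.{u} ℕ :=
  CochainComplex.of (fun q => M.X p q) (fun q => AddCommGrpCat.ofHom (M.v p q)) fun q => by
    ext x
    exact M.vv p q x

theorem col_d (p q : ℕ) (x : M.X p q) : (col M p).d q (q + 1) x = M.v p q x := by
  exact congrArg (fun g => g x) (CochainComplex.of_d (fun q => M.X p q) (fun q => AddCommGrpCat.ofHom (M.v p q)) q)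

/-- Removing the column zero. -/
def shift : Dbl.{u} where
  X p q := M.X (p + 1) q
  h p q := -M.h (p + 1) q
  v p q := M.v (p + 1) q
  hh p q x := by simp [M.hh]
  vv p q x := M.vv _ _ x
  hv p q x := by simp [M.hv]

/-- An element of the total group from its column zero and the rest. -/
def join {k : ℕ} {m : ℤ} (hm : m + 1 = (k : ℤ)) (x : M.X 0 k) (c : T (shift M) m) : T M k
  | ⟨(0, q), hi⟩ => (show q = k by simpa using hi) ▸ x
  | ⟨(p + 1, q), hi⟩ => c ⟨(p, q), by push_cast at hi ⊢; omega⟩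

theorem join_zero {k : ℕ} {m : ℤ} (hm : m + 1 = (k : ℤ)) (x : M.X 0 k) (c : T (shift M) m)
    (hi : ((0 : ℕ) : ℤ) + k = k) : join M hm x c ⟨(0, k), hi⟩ = x := rfl

theorem join_succ {k : ℕ} {m : ℤ} (hm : m + 1 = (k : ℤ)) (x : M.X 0 k) (c : T (shift M) m) (p q : ℕ)
    (hi : ((p + 1 : ℕ) : ℤ) + q = k) :
    join M hm x c ⟨(p + 1, q), hi⟩ = c ⟨(p, q), by push_cast at hi ⊢; omega⟩ := rfl

theorem exists_join {k : ℕ} {m : ℤ} (hm : m + 1 = (k : ℤ)) (a : T M k) :
    ∃ x c, join M hm x c = a := by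
  refine ⟨a ⟨(0, k), by simp⟩, fun i => a ⟨(i.1.1 + 1, i.1.2), by have := i.2; push_cast; omega⟩, funext fun i => ?_⟩
  obtain ⟨⟨p, q⟩, hi⟩ := i
  cases p with
  | zero =>
    obtain rfl : q = k := by simpa using hi
    rfl
  | succ p => rfl

/-- The augmentation. -/
def eps (k : ℕ) : M.X 0 k →+ T (shift M) k :=
  AddMonoidHom.mk' (fun x => single (shift M) 0 k (by simp) (M.h 0 k x)) fun x y => by
    rw [map_add]
    exact Pi.single_add (f := fun i : Idx (k : ℤ) => (shift M).X i.1.1 i.1.2) _ _ _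

theorem td_eps (k : ℕ) (x : M.X 0 k) (n : ℤ) (hn : (k : ℤ) + 1 = n) (hn' : ((k + 1 : ℕ) : ℤ) = n) :
    td (shift M) k n hn (eps M k x) = (hn' ▸ eps M (k + 1) (M.v 0 k x) : T (shift M) n) := by
  subst hn'
  funext i
  obtain ⟨⟨p, q⟩, hi⟩ := i
  show td (shift M) k _ hn (single (shift M) 0 k _ _) _ = single (shift M) 0 (k + 1) _ _ _
  by_cases h0 : p = 0
  · subst h0
    obtain rfl : q = k + 1 := by simp at hi; omega
    rw [td_single_v, single_same]
    show (-1 : ℤ) ^ 0 • M.v 1 k (M.h 0 k x) = _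
    rw [pow_zero, one_smul, M.hv]
  rw [single_ne _ _ _ _ _ ⟨(p, q), hi⟩ h0]
  by_cases h1 : p = 1
  · subst h1
    obtain rfl : q = k := by push_cast at hi; omega
    rw [td_single_h]
    show -M.h 1 q (M.h 0 q x) = 0
    rw [M.hh, neg_zero]
  · exact td_single_ne _ _ _ _ _ _ _ _ h0 h1

theorem hPart_join {k : ℕ} {m : ℤ} (hm : m + 1 = (k : ℤ)) (x : M.X 0 k) (c : T (shift M) m) (n : ℤ)
    (e : (k : ℤ) + 1 = n) (p q : ℕ) (hi : ((p + 2 : ℕ) : ℤ) + q = n) :
    hPart M k n e (join M hm x c) (p + 2) q hi =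
      -hPart (shift M) m k hm c (p + 1) q (by push_cast at hi ⊢; omega) :=
  (neg_neg (M.h (p + 1) q (c ⟨(p, q), by push_cast at hi ⊢; omega⟩))).symm

theorem vPart_join {k : ℕ} {m : ℤ} (hm : m + 1 = (k : ℤ)) (x : M.X 0 k) (c : T (shift M) m) (n : ℤ)
    (e : (k : ℤ) + 1 = n) (p q : ℕ) (hi : ((p + 1 : ℕ) : ℤ) + q = n) :
    vPart M k n e (join M hm x c) (p + 1) q hi =
      -vPart (shift M) m k hm c p q (by push_cast at hi ⊢; omega) := by
  cases q with
  | zero => exact neg_zero.symm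
  | succ q =>
    show ((-1 : ℤ) ^ (p + 1)) • M.v (p + 1) q (c ⟨(p, q), _⟩) = -(((-1 : ℤ) ^ p) • M.v (p + 1) q (c ⟨(p, q), _⟩))
    rw [pow_succ, mul_neg_one, neg_smul]

theorem td_join {k : ℕ} {m : ℤ} (hm : m + 1 = (k : ℤ)) (x : M.X 0 k) (c : T (shift M) m) :
    td M k ((k + 1 : ℕ) : ℤ) (by simp) (join M hm x c) =
      join M (m := (k : ℤ)) (by simp) (M.v 0 k x) (eps M k x - td (shift M) m k hm c) := by
  funext i
  obtain ⟨⟨p, q⟩, hi⟩ := i
  rw [td_apply]
  cases p with
  | zero =>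
    obtain rfl : q = k + 1 := by simp at hi; omega
    simp [hPart, vPart, join_zero]
  | succ p =>
    rw [join_succ, vPart_join]
    change _ = @HSub.hSub (M.X (p + 1) q) (M.X (p + 1) q) (M.X (p + 1) q) _
      (eps M k x ⟨(p, q), by push_cast at hi ⊢; omega⟩)
      (hPart (shift M) m k hm c p q _ + vPart (shift M) m k hm c p q _)
    cases p with
    | zero =>
      obtain rfl : q = k := by push_cast at hi; omega
      have e1 : eps M q x ⟨(0, q), by simp⟩ = M.h 0 q x := single_same (shift M) _ _ _ _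
      rw [e1]
      show M.h 0 q x + -_ = M.h 0 q x - ((0 : M.X 1 q) + _)
      exact (sub_eq_add_neg _ _).symm.trans (congrArg _ (zero_add _).symm)
    | succ p =>
      have e1 : eps M k x ⟨(p + 1, q), by push_cast at hi ⊢; omega⟩ = (0 : M.X (p + 2) q) :=
        single_ne (shift M) 0 k (by simp) (M.h 0 k x) ⟨(p + 1, q), _⟩ (Nat.succ_ne_zero p)
      rw [e1, hPart_join, zero_sub]
      exact (neg_add _ _).symm

theorem td_congr {m n : ℤ} (e : m + 1 = n) {m' : ℤ} (hm : m' = m) (c : T M m') :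
    td M m n e (hm ▸ c) = td M m' n (hm ▸ e) c := by
  subst hm; rfl

/-- An exact augmented total complex identifies the homology of the column zero and of the rest. -/
theorem nonempty_homology_col_iso (hM : ∀ n, TotExact M n) (k : ℕ) :
    Nonempty ((col M 0).homology k ≅ (Tot (shift M)).homology (k : ℤ)) := by
  obtain ⟨i, hi⟩ : ∃ i, i = (ComplexShape.up ℕ).prev k := ⟨_, rfl⟩
  obtain ⟨e⟩ := nonempty_homology_iso ((col M 0).sc' i k (k + 1))
    ((Tot (shift M)).sc' ((k : ℤ) - 1) k ((k + 1 : ℕ) : ℤ)) (eps M k)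
    (fun x hx => by
      show (Tot (shift M)).d k _ (eps M k x) = 0
      rw [Tot_d _ _ _ (by simp)]
      have hx' : M.v 0 k x = 0 := (col_d M 0 k x).symm.trans hx
      rw [td_eps M k x _ (by simp) rfl, hx']
      exact map_zero _)
    (fun c hc => by
      have hc' : td (shift M) k ((k + 1 : ℕ) : ℤ) (by simp) c = 0 := (Tot_d _ _ _ _ c).symm.trans hc
      let a : T M ((k + 1 : ℕ) : ℤ) := join M (m := (k : ℤ)) (by simp) 0 c
      obtain ⟨b, hb⟩ := hM _ a (by
        show td M ((k + 1 : ℕ) : ℤ) (((k + 1 : ℕ) : ℤ) + 1) rfl a = 0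
        have := td_join M (k := k + 1) (m := (k : ℤ)) (by simp) 0 c
        rw [map_zero, map_zero, hc', sub_zero] at this
        funext j
        obtain ⟨⟨p, q⟩, hj⟩ := j
        have := congrFun this ⟨(p, q), by simpa using hj⟩
        refine Eq.trans (by rfl) (this.trans ?_)
        cases p with
        | zero =>
          obtain rfl : q = k + 2 := by simp at hj; omega
          rfl
        | succ p => rfl)
      obtain ⟨x, c', hxc⟩ := exists_join M (k := k) (m := (k : ℤ) - 1) (sub_add_cancel _ _)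
        (fun j => b ⟨j.1, by have := j.2; push_cast; omega⟩)
      have hb' : td M k ((k + 1 : ℕ) : ℤ) (by simp) (join M (sub_add_cancel _ _) x c') = a := by
        rw [hxc, ← hb]
        funext j
        obtain ⟨⟨p, q⟩, hj⟩ := j
        cases p <;> cases q <;> rfl
      rw [td_join] at hb'
      refine ⟨x, ?_, -c', ?_⟩
      · exact (col_d M 0 k x).trans ((join_zero M _ _ _ (by simp)).symm.trans
          (congrFun hb' ⟨(0, k + 1), by simp⟩))
      · show (Tot (shift M)).d _ _ (-c') = @HSub.hSub (T (shift M) k) (T (shift M) k) (T (shift M) k) _ c (eps M k x)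
        rw [Tot_d _ _ _ (sub_add_cancel _ _), map_neg]
        funext j
        obtain ⟨⟨p, q⟩, hj⟩ := j
        have := congrFun hb' ⟨(p + 1, q), by push_cast at hj ⊢; omega⟩
        rw [join_succ, Pi.sub_apply] at this
        simp only [Pi.neg_apply, Pi.sub_apply]
        rw [show c ⟨(p, q), hj⟩ = a ⟨(p + 1, q), by push_cast at hj ⊢; omega⟩ from rfl, ← this]
        abel)
    (fun x hx => by
      have hx' : M.v 0 k x = 0 := (col_d M 0 k x).symm.trans hx
      constructor
      · rintro ⟨c, hc⟩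
        have hc' : td (shift M) ((k : ℤ) - 1) k (sub_add_cancel _ _) c = eps M k x :=
          (Tot_d _ _ _ _ c).symm.trans hc
        obtain ⟨b, hb⟩ := hM _ (join M (k := k) (m := (k : ℤ) - 1) (sub_add_cancel _ _) x c) (by
          have := td_join M (k := k) (sub_add_cancel _ _) x c
          rw [hx', hc', sub_self] at this
          funext j
          obtain ⟨⟨p, q⟩, hj⟩ := j
          have := congrFun this ⟨(p, q), by simpa using hj⟩
          refine Eq.trans (by rfl) (this.trans ?_)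
          cases p with
          | zero =>
            obtain rfl : q = k + 1 := by simp at hj; omega
            rfl
          | succ p => rfl)
        have h0 := congrFun hb ⟨(0, k), by simp⟩
        rw [join_zero, td_apply] at h0
        cases k with
        | zero => exact ⟨0, (map_zero _).trans (show (0 : M.X 0 0) = x by simpa [hPart, vPart] using h0)⟩
        | succ k =>
          obtain rfl : i = k := hi.trans (CochainComplex.prev_nat_succ k)
          let y : M.X 0 i := b ⟨(0, i), by simp⟩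
          have h0' : M.v 0 i y = x := by simpa [hPart, vPart] using h0
          exact ⟨y, (col_d M 0 i y).trans h0'⟩
      · rintro ⟨y, hy⟩
        cases k with
        | zero =>
          have : x = 0 := by
            rw [← hy]
            show (col M 0).d i 0 y = 0
            rw [(col M 0).shape _ _ (by simp)]
            rfl
          refine ⟨0, ?_⟩
          rw [this, map_zero, map_zero]
        | succ k =>
          obtain rfl : i = k := hi.trans (CochainComplex.prev_nat_succ k)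
          have hy' : M.v 0 i y = x := (col_d M 0 i y).symm.trans hy
          refine ⟨fun j => eps M i y ⟨j.1, by have := j.2; push_cast at this ⊢; omega⟩, ?_⟩
          show (Tot (shift M)).d _ _ _ = _
          rw [Tot_d _ _ _ (sub_add_cancel _ _), ← hy']
          funext j
          obtain ⟨⟨p, q⟩, hj⟩ := j
          have := congrFun (td_eps M i y _ (by simp) rfl) ⟨(p, q), hj⟩
          refine Eq.trans ?_ this
          cases p <;> cases q <;> rfl)
  exact ⟨(col M 0).homologyIsoSc' i k (k + 1) hi.symm (by simp) ≪≫ e ≪≫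
    ((Tot (shift M)).homologyIsoSc' ((k : ℤ) - 1) k ((k + 1 : ℕ) : ℤ) (by simp) (by simp)).symm⟩

variable {M} {N : Dbl.{u}} (φ : Hom M N)

/-- The objects of the cone. -/
def coneX : ℕ → ℕ → AddCommGrpCat.{u}
  | p, 0 => M.X p 0
  | p, q + 1 => AddCommGrpCat.of (N.X p q × M.X p (q + 1))

/-- The cone, taken column by column. -/
def cone : Dbl.{u} where
  X := coneX (M := M) (N := N)
  h p q :=
    match q with
    | 0 => M.h p 0
    | q + 1 => (N.h p q).prodMap (M.h p (q + 1))
  v p q :=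
    match q with
    | 0 => (φ.f p 0).prod (M.v p 0)
    | q + 1 => AddMonoidHom.prod ((φ.f p (q + 1)).comp (AddMonoidHom.snd _ _) - (N.v p q).comp (AddMonoidHom.fst _ _))
        ((M.v p (q + 1)).comp (AddMonoidHom.snd _ _))
  hh p q x := by
    cases q with
    | zero => exact M.hh p 0 x
    | succ q => exact Prod.ext (N.hh p q x.1) (M.hh p (q + 1) x.2)
  vv p q x := by
    cases q with
    | zero =>
      refine Prod.ext ?_ (M.vv p 0 x)
      show φ.f p 1 (M.v p 0 x) - N.v p 0 (φ.f p 0 x) = 0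
      rw [φ.f_v, sub_self]
    | succ q =>
      refine Prod.ext ?_ (M.vv p (q + 1) x.2)
      show φ.f p (q + 2) (M.v p (q + 1) x.2) - N.v p (q + 1) (φ.f p (q + 1) x.2 - N.v p q x.1) = 0
      rw [φ.f_v, map_sub, N.vv, sub_zero, sub_self]
  hv p q x := by
    cases q with
    | zero =>
      refine Prod.ext ?_ (M.hv p 0 x)
      show N.h p 0 (φ.f p 0 x) = φ.f (p + 1) 0 (M.h p 0 x)
      rw [φ.f_h]
    | succ q =>
      refine Prod.ext ?_ (M.hv p (q + 1) x.2)
      show N.h p (q + 1) (φ.f p (q + 1) x.2 - N.v p q x.1) =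
        φ.f (p + 1) (q + 1) (M.h p (q + 1) x.2) - N.v (p + 1) q (N.h p q x.1)
      rw [map_sub, φ.f_h, N.hv]

/-- The projection from the cone. -/
def coneProj : Hom (cone φ) M where
  f p q :=
    match q with
    | 0 => AddMonoidHom.id _
    | q + 1 => AddMonoidHom.snd (N.X p q) (M.X p (q + 1))
  f_h p q x := by cases q <;> rfl
  f_v p q x := by cases q <;> rfl

/-- Total cycles whose image bounds lift to the cone. -/
theorem exists_cone_cycle (n : ℤ) (a : T M n) (ha : td M n (n + 1) rfl a = 0) (b : T N (n - 1))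
    (hb : td N (n - 1) n (sub_add_cancel n 1) b = φ.tot n a) :
    ∃ c : T (cone φ) n, td (cone φ) n (n + 1) rfl c = 0 ∧ (coneProj φ).tot n c = a := by
  let c : T (cone φ) n := fun i =>
    match i with
    | ⟨(p, 0), hi⟩ => a ⟨(p, 0), hi⟩
    | ⟨(p, q + 1), hi⟩ => (((-1 : ℤ) ^ p) • b ⟨(p, q), by push_cast at hi ⊢; omega⟩, a ⟨(p, q + 1), hi⟩)
  have hc : (coneProj φ).tot n c = a := by
    funext i
    obtain ⟨⟨p, q⟩, hi⟩ := i
    cases q <;> rfl
  refine ⟨c, ?_, hc⟩
  funext i
  obtain ⟨⟨p, q⟩, hi⟩ := i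
  have h2 : (coneProj φ).f p q (td (cone φ) n (n + 1) rfl c ⟨(p, q), hi⟩) = 0 := by
    rw [← Hom.tot_apply (coneProj φ) (n + 1) _ ⟨(p, q), hi⟩, Hom.tot_td, hc, ha]
    rfl
  cases q with
  | zero => exact h2
  | succ q =>
    refine Prod.ext ?_ h2
    have h1 : hPart N (n - 1) n (sub_add_cancel n 1) b p q (by push_cast at hi ⊢; omega) +
        vPart N (n - 1) n (sub_add_cancel n 1) b p q (by push_cast at hi ⊢; omega) =
          φ.f p q (a ⟨(p, q), by push_cast at hi ⊢; omega⟩) :=
      congrFun hb ⟨(p, q), by push_cast at hi ⊢; omega⟩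
    rcases p with _ | p <;> rcases q with _ | q
    · show (0 : N.X 0 0) + ((-1 : ℤ) ^ 0) • φ.f 0 0 _ = 0
      rw [← h1]; simp [hPart, vPart]
    · show (0 : N.X 0 (q + 1)) + ((-1 : ℤ) ^ 0) • (φ.f 0 (q + 1) (a ⟨(0, q + 1), by push_cast at hi ⊢; omega⟩) -
        N.v 0 q (((-1 : ℤ) ^ 0) • b ⟨(0, q), by push_cast at hi ⊢; omega⟩)) = 0
      rw [← h1]; simp [hPart, vPart]
    · show N.h p 0 (((-1 : ℤ) ^ p) • _) + ((-1 : ℤ) ^ (p + 1)) • φ.f (p + 1) 0 _ = 0
      rw [← h1]; simp [hPart, vPart, pow_succ]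
    · show N.h p (q + 1) (((-1 : ℤ) ^ p) • _) +
        ((-1 : ℤ) ^ (p + 1)) • (φ.f (p + 1) (q + 1) (a ⟨(p + 1, q + 1), by push_cast at hi ⊢; omega⟩) -
          N.v (p + 1) q (((-1 : ℤ) ^ (p + 1)) • b ⟨(p + 1, q), by push_cast at hi ⊢; omega⟩)) = 0
      rw [← h1]; simp [hPart, vPart, pow_succ]

end Groth.Agent.DblCx16
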