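import Mathlib.Algebra.Category.Grp.Abelian
import Mathlib.Algebra.Homology.HomologicalComplex
import Mathlib.Algebra.Homology.HomotopyCategory.Shift

/-! First quadrant double complexes of abelian groups and their total complexes, elementwise. -/

universe u

open CategoryTheory

set_option autoImplicit false

namespace Groth.Agent.DblCx16

/-- A first quadrant double complex with commuting squares. -/
structure Dbl : Type (u + 1) where
  X : ℕ → ℕ → AddCommGrpCat.{u}
  h : ∀ p q, X p q →+ X (p + 1) q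
  v : ∀ p q, X p q →+ X p (q + 1)
  hh : ∀ p q x, h (p + 1) q (h p q x) = 0
  vv : ∀ p q x, v p (q + 1) (v p q x) = 0
  hv : ∀ p q x, h p (q + 1) (v p q x) = v (p + 1) q (h p q x)

variable (M : Dbl.{u})

/-- The positions of total degree `n`. -/
abbrev Idx (n : ℤ) : Type := {i : ℕ × ℕ // (i.1 : ℤ) + i.2 = n}

/-- The total group in degree `n`. -/
abbrev T (n : ℤ) : Type u := ∀ i : Idx n, M.X i.1.1 i.1.2

/-- The horizontal part of the total differential. -/
def hPart (m n : ℤ) (e : m + 1 = n) (a : T M m) : ∀ (p q : ℕ), (p : ℤ) + q = n → M.X p q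
  | 0, _, _ => 0
  | p + 1, q, hi => M.h p q (a ⟨(p, q), by push_cast at hi ⊢; omega⟩)

/-- The vertical part of the total differential. -/
def vPart (m n : ℤ) (e : m + 1 = n) (a : T M m) : ∀ (p q : ℕ), (p : ℤ) + q = n → M.X p q
  | _, 0, _ => 0
  | p, q + 1, hi => ((-1 : ℤ) ^ p) • M.v p q (a ⟨(p, q), by push_cast at hi ⊢; omega⟩)

theorem hPart_add (m n : ℤ) (e : m + 1 = n) (a b : T M m) (p q : ℕ) (hi : (p : ℤ) + q = n) :
    hPart M m n e (a + b) p q hi = hPart M m n e a p q hi + hPart M m n e b p q hi := by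
  cases p with
  | zero => simp [hPart]
  | succ p => simp [hPart]

theorem vPart_add (m n : ℤ) (e : m + 1 = n) (a b : T M m) (p q : ℕ) (hi : (p : ℤ) + q = n) :
    vPart M m n e (a + b) p q hi = vPart M m n e a p q hi + vPart M m n e b p q hi := by
  cases q with
  | zero => simp [vPart]
  | succ q => simp [vPart]

/-- The total differential. -/
def td (m n : ℤ) (e : m + 1 = n) : T M m →+ T M n :=
  AddMonoidHom.mk' (fun a i => hPart M m n e a i.1.1 i.1.2 i.2 + vPart M m n e a i.1.1 i.1.2 i.2) fun a b => by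
    funext i
    simp only [hPart_add, vPart_add, Pi.add_apply]
    abel

theorem td_apply (m n : ℤ) (e : m + 1 = n) (a : T M m) (p q : ℕ) (hi : (p : ℤ) + q = n) :
    td M m n e a ⟨(p, q), hi⟩ = hPart M m n e a p q hi + vPart M m n e a p q hi := rfl

theorem td_td (l m n : ℤ) (e : l + 1 = m) (e' : m + 1 = n) (a : T M l) :
    td M m n e' (td M l m e a) = 0 := by
  funext i
  obtain ⟨⟨p, q⟩, hi⟩ := i
  change hPart M m n e' _ p q hi + vPart M m n e' _ p q hi = 0
  rcases p with _ | p <;> rcases q with _ | q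
  · simp [hPart, vPart]
  · rcases q with _ | q
    · simp [hPart, vPart, td_apply]
    · simp [hPart, vPart, td_apply, M.vv]
  · rcases p with _ | p
    · simp [hPart, vPart, td_apply]
    · simp [hPart, vPart, td_apply, M.hh]
  · rcases p with _ | p <;> rcases q with _ | q <;>
      simp [hPart, vPart, td_apply, M.hh, M.vv, M.hv, pow_succ]

/-- The total complex. -/
def Tot : CochainComplex AddCommGrpCat.{u} ℤ where
  X n := AddCommGrpCat.of (T M n)
  d m n := if e : m + 1 = n then AddCommGrpCat.ofHom (td M m n e) else 0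
  shape m n e := dif_neg e
  d_comp_d' l m n e e' := by
    change l + 1 = m at e
    change m + 1 = n at e'
    rw [dif_pos e, dif_pos e']
    ext a i
    exact congrFun (td_td M l m n e e' a) i

theorem Tot_d (m n : ℤ) (e : m + 1 = n) (a : T M m) : (Tot M).d m n a = td M m n e a := by
  show (if e : m + 1 = n then AddCommGrpCat.ofHom (td M m n e) else 0) a = _
  rw [dif_pos e]
  rfl

/-- The total complex is exact in degree `n`. -/
def TotExact (n : ℤ) : Prop :=
  ∀ a : T M n, td M n (n + 1) rfl a = 0 → ∃ b : T M (n - 1), td M (n - 1) n (sub_add_cancel n 1) b = a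

/-- The element concentrated in one position. -/
def single {n : ℤ} (p q : ℕ) (hi : (p : ℤ) + q = n) (x : M.X p q) : T M n :=
  Pi.single (M := fun i : Idx n => M.X i.1.1 i.1.2) ⟨(p, q), hi⟩ x

theorem single_same {n : ℤ} (p q : ℕ) (hi : (p : ℤ) + q = n) (x : M.X p q) :
    single M p q hi x ⟨(p, q), hi⟩ = x := Pi.single_eq_same (M := fun i : Idx n => M.X i.1.1 i.1.2) _ _

theorem single_ne {n : ℤ} (p q : ℕ) (hi : (p : ℤ) + q = n) (x : M.X p q) (i : Idx n) (h : i.1.1 ≠ p) :
    single M p q hi x i = 0 :=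
  Pi.single_eq_of_ne (M := fun i : Idx n => M.X i.1.1 i.1.2) (fun e => h (congrArg (fun i : Idx n => i.1.1) e)) _

theorem td_single_h {m : ℤ} (n : ℤ) (e : m + 1 = n) (p q : ℕ) (hi : (p : ℤ) + q = m) (x : M.X p q)
    (hj : ((p + 1 : ℕ) : ℤ) + q = n) : td M m n e (single M p q hi x) ⟨(p + 1, q), hj⟩ = M.h p q x := by
  rw [td_apply]
  cases q with
  | zero => simp [hPart, vPart, single_same]
  | succ q => simp [hPart, vPart, single_same, single_ne]

theorem td_single_ne {m : ℤ} (n : ℤ) (e : m + 1 = n) (p q : ℕ) (hi : (p : ℤ) + q = m) (x : M.X p q)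
    (i : Idx n) (h1 : i.1.1 ≠ p) (h2 : i.1.1 ≠ p + 1) : td M m n e (single M p q hi x) i = 0 := by
  obtain ⟨⟨a, b⟩, hab⟩ := i
  rw [td_apply]
  have hh : hPart M m n e (single M p q hi x) a b hab = 0 := by
    cases a with
    | zero => rfl
    | succ a =>
      change M.h a b _ = 0
      rw [single_ne M p q hi x _ (by simp at h2 ⊢; omega), map_zero]
  have hv : vPart M m n e (single M p q hi x) a b hab = 0 := by
    cases b with
    | zero => rfl
    | succ b =>
      change ((-1 : ℤ) ^ a) • M.v a b _ = 0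
      rw [single_ne M p q hi x _ (by simpa using h1), map_zero, smul_zero]
  rw [hh, hv, add_zero]

theorem td_single_v {m : ℤ} (n : ℤ) (e : m + 1 = n) (p q : ℕ) (hi : (p : ℤ) + q = m) (x : M.X p q)
    (hj : (p : ℤ) + ((q + 1 : ℕ) : ℤ) = n) :
    td M m n e (single M p q hi x) ⟨(p, q + 1), hj⟩ = ((-1 : ℤ) ^ p) • M.v p q x := by
  rw [td_apply]
  cases p with
  | zero => simp [hPart, vPart, single_same]
  | succ p => simp [hPart, vPart, single_same, single_ne]

/-- Exact rows give an exact total complex. -/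
theorem totExact_of_rows (h0 : ∀ q x, M.h 0 q x = 0 → x = 0)
    (hs : ∀ p q x, M.h (p + 1) q x = 0 → ∃ y, M.h p q y = x) (n : ℤ) : TotExact M n := by
  suffices key : ∀ (K : ℕ) (a : T M n), (∀ i : Idx n, K < i.1.1 → a i = 0) → td M n (n + 1) rfl a = 0 →
      ∃ b : T M (n - 1), td M (n - 1) n (sub_add_cancel n 1) b = a from
    fun a ha => key n.toNat a (fun i hi => absurd i.2 (by omega)) ha
  intro K
  induction K with
  | zero =>
    intro a hK ha
    refine ⟨0, (map_zero _).trans (funext fun i => Eq.symm ?_)⟩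
    obtain ⟨⟨p, q⟩, hi⟩ := i
    cases p with
    | succ p => exact hK _ (Nat.succ_pos _)
    | zero =>
      have := congrFun ha ⟨(1, q), by simp at hi ⊢; omega⟩
      rw [td_apply] at this
      refine h0 q _ ?_
      cases q with
      | zero => simpa [hPart, vPart] using this
      | succ q => simpa [hPart, vPart, hK ⟨(1, q), by simp at hi ⊢; omega⟩ one_pos] using this
  | succ K ih =>
    intro a hK ha
    by_cases hKn : ((K + 1 : ℕ) : ℤ) ≤ n
    swap
    · exact ih a (fun i hi => absurd i.2 (by omega)) ha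
    obtain ⟨q, hq⟩ : ∃ q : ℕ, ((K + 1 : ℕ) : ℤ) + q = n := ⟨(n - (K + 1 : ℕ)).toNat, by omega⟩
    have hz : M.h (K + 1) q (a ⟨(K + 1, q), hq⟩) = 0 := by
      have := congrFun ha ⟨(K + 2, q), by push_cast at hq ⊢; omega⟩
      rw [td_apply] at this
      cases q with
      | zero => simpa [hPart, vPart] using this
      | succ q => simpa [hPart, vPart, hK ⟨(K + 2, q), by push_cast at hq ⊢; omega⟩ (Nat.lt_succ_self _)] using this
    obtain ⟨y, hy⟩ := hs K q _ hz
    let c : T M (n - 1) := single M K q (by push_cast at hq; omega) y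
    obtain ⟨b, hb⟩ := ih (a - td M (n - 1) n (sub_add_cancel n 1) c) (fun i hi => by
        rw [Pi.sub_apply]
        obtain ⟨⟨p, q'⟩, hpq⟩ := i
        rcases Nat.lt_or_eq_of_le (Nat.succ_le_of_lt hi) with h | h
        · rw [hK _ h, td_single_ne M n _ K q _ y _ (by simp at h ⊢; omega) (by simp at h ⊢; omega), sub_zero]
        · obtain rfl : p = K + 1 := h.symm
          obtain rfl : q' = q := by simp at hpq hq; omega
          rw [td_single_h, hy, sub_self])
      (by rw [map_sub, td_td, ha, sub_zero])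
    exact ⟨b + c, by rw [map_add, hb, sub_add_cancel]⟩

/-- Morphisms of double complexes. -/
structure Hom (N : Dbl.{u}) where
  f : ∀ p q, M.X p q →+ N.X p q
  f_h : ∀ p q x, f (p + 1) q (M.h p q x) = N.h p q (f p q x)
  f_v : ∀ p q x, f p (q + 1) (M.v p q x) = N.v p q (f p q x)

variable {M} {N : Dbl.{u}}

/-- The map of total groups. -/
def Hom.tot (φ : Hom M N) (n : ℤ) : T M n →+ T N n where
  toFun a i := φ.f _ _ (a i)
  map_zero' := funext fun i => map_zero _
  map_add' a b := funext fun i => map_add _ _ _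

theorem Hom.tot_apply (φ : Hom M N) (n : ℤ) (a : T M n) (i : Idx n) : φ.tot n a i = φ.f _ _ (a i) := rfl

theorem Hom.tot_td (φ : Hom M N) (m n : ℤ) (e : m + 1 = n) (a : T M m) :
    φ.tot n (td M m n e a) = td N m n e (φ.tot m a) := by
  funext i
  obtain ⟨⟨p, q⟩, hi⟩ := i
  rw [Hom.tot_apply, td_apply, td_apply, map_add]
  congr 1
  · cases p with
    | zero => simp [hPart]
    | succ p => simp [hPart, φ.f_h, Hom.tot_apply]
  · cases q with
    | zero => simp [vPart]
    | succ q => simp [vPart, φ.f_v, Hom.tot_apply]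

/-- Cycles in columns killed further along give total cycles killed further along. -/
theorem exists_td_eq_of_columns {ι : Type*} [Preorder ι] (M : ι → Dbl.{u})
    (r : ∀ {i j : ι}, i ≤ j → Hom (M i) (M j))
    (hr : ∀ {i j k : ι} (h : i ≤ j) (h' : j ≤ k) p q (x : (M i).X p q),
      (r h').f p q ((r h).f p q x) = (r (h.trans h')).f p q x)
    (hr' : ∀ i p q (x : (M i).X p q), (r (le_refl i)).f p q x = x)
    (h0 : ∀ i p (x : (M i).X p 0), (M i).v p 0 x = 0 → ∃ (j : ι) (h : i ≤ j), (r h).f p 0 x = 0)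
    (hs : ∀ i p q (x : (M i).X p (q + 1)), (M i).v p (q + 1) x = 0 →
      ∃ (j : ι) (h : i ≤ j) (y : (M j).X p q), (M j).v p q y = (r h).f p (q + 1) x)
    (i : ι) (n : ℤ) (a : T (M i) n) (ha : td (M i) n (n + 1) rfl a = 0) :
    ∃ (j : ι) (h : i ≤ j) (b : T (M j) (n - 1)), td (M j) (n - 1) n (sub_add_cancel n 1) b = (r h).tot n a := by
  suffices key : ∀ (d : ℕ) (i : ι) (a : T (M i) n), (∀ k : Idx n, k.1.1 + d ≤ n.toNat → a k = 0) →
      td (M i) n (n + 1) rfl a = 0 → ∃ (j : ι) (h : i ≤ j) (b : T (M j) (n - 1)),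
        td (M j) (n - 1) n (sub_add_cancel n 1) b = (r h).tot n a from
    key (n.toNat + 1) i a (fun k hk => absurd hk (by omega)) ha
  intro d
  induction d with
  | zero =>
    intro i a hd _
    refine ⟨i, le_rfl, 0, (map_zero _).trans (funext fun k => Eq.symm ?_)⟩
    rw [Hom.tot_apply, hd k (by obtain ⟨k, hk⟩ := k; simp; omega), map_zero]
    rfl
  | succ d ih =>
    intro i a hd ha
    by_cases hdn : d ≤ n.toNat ∧ 0 ≤ n
    swap
    · exact ih i a (fun k hk => absurd k.2 (by omega)) ha
    obtain ⟨k, hk⟩ : ∃ k : ℕ, k + d = n.toNat := ⟨n.toNat - d, by omega⟩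
    have hkd : (k : ℤ) + d = n := by omega
    have hz : (M i).v k d (a ⟨(k, d), hkd⟩) = 0 := by
      have := congrFun ha ⟨(k, d + 1), by push_cast; omega⟩
      rw [td_apply] at this
      have e : hPart (M i) n (n + 1) rfl a k (d + 1) (by push_cast; omega) = 0 := by
        cases k with
        | zero => rfl
        | succ k =>
          change (M i).h k (d + 1) _ = 0
          rw [hd ⟨(k, d + 1), by push_cast at hkd ⊢; omega⟩ (by simp; omega), map_zero]
      rw [e, zero_add] at this
      change ((-1 : ℤ) ^ k) • (M i).v k d _ = 0 at this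
      simpa [smul_smul, ← mul_pow] using congrArg (fun z => ((-1 : ℤ) ^ k) • z) this
    rcases d with _ | d
    · obtain ⟨j, h, hj⟩ := h0 i k _ hz
      obtain ⟨j', h', b, hb⟩ := ih j ((r h).tot n a) (fun l hl => by
          obtain ⟨⟨p, q⟩, hl'⟩ := l
          rcases Nat.lt_or_eq_of_le (show p ≤ k by simp at hl; omega) with h1 | rfl
          · rw [Hom.tot_apply, hd _ (by simp; omega), map_zero]
          · obtain rfl : q = 0 := by simp at hl'; omega
            exact hj)
        (by rw [← Hom.tot_td, ha, map_zero])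
      exact ⟨j', h.trans h', b, hb.trans (funext fun l => hr h h' _ _ _)⟩
    · obtain ⟨j, h, y, hy⟩ := hs i k d _ hz
      let c : T (M j) (n - 1) := single (M j) k d (by push_cast at hkd; omega) (((-1 : ℤ) ^ k) • y)
      obtain ⟨j', h', b, hb⟩ := ih j ((r h).tot n a - td (M j) (n - 1) n (sub_add_cancel n 1) c) (fun l hl => by
          obtain ⟨⟨p, q⟩, hl'⟩ := l
          rw [Pi.sub_apply]
          rcases Nat.lt_or_eq_of_le (show p ≤ k by simp at hl; omega) with h1 | rfl
          · rw [Hom.tot_apply, hd _ (by simp; omega), map_zero,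
              td_single_ne (M j) n _ k d _ _ _ (by simp; omega) (by simp; omega), sub_zero]
          · obtain rfl : q = d + 1 := by simp at hl'; omega
            rw [Hom.tot_apply, td_single_v, map_zsmul, smul_smul, ← pow_add, hy]
            simp)
        (by rw [map_sub, td_td, ← Hom.tot_td, ha, map_zero, sub_zero])
      refine ⟨j', h.trans h', b + (r h').tot _ c, ?_⟩
      rw [map_add, hb, ← Hom.tot_td, map_sub, sub_add_cancel]
      exact funext fun l => hr h h' _ _ _

end Groth.Agent.DblCx16
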