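import Groth.Agent.Lib.DblCx16.Aug
import Groth.Agent.Lib.SpObj.Homology
import Groth.Prelude.Def_SpSeq
import Mathlib.Algebra.Homology.SpectralObject.EpiMono
import Mathlib.Algebra.Homology.SpectralObject.FirstPage
import Mathlib.Algebra.Homology.HomotopyCategory.SpectralObject
import Mathlib.Algebra.Homology.HomotopyCategory.HomologicalFunctor
import Mathlib.Algebra.Homology.HomotopyCategory.ShortExact
import Mathlib.Algebra.Homology.HomologicalComplexAbelian
import Mathlib.CategoryTheory.Abelian.Refinements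

/-! Spectral objects indexed by a preorder: graded pieces; the spectral object of a filtered total complex. -/

universe v u w

open CategoryTheory CategoryTheory.Limits ComposableArrows

set_option autoImplicit false
set_option linter.style.haveILetI false

namespace Groth.Agent.DblCx16

open CategoryTheory.Abelian CategoryTheory.Abelian.SpectralObject

section General

variable {C : Type u} [Category.{v} C] [Abelian C] {ι : Type w} [Preorder ι] (Y : SpectralObject C ι)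

/-- The map `H^n(a ≤ j) ⟶ H^n(a ≤ b)`. -/
noncomputable def toEnd (n : ℤ) (a j b : ι) (h₁ : a ≤ j) (h₂ : j ≤ b) :
    (Y.H n).obj (mk₁ (homOfLE h₁)) ⟶ (Y.H n).obj (mk₁ (homOfLE (h₁.trans h₂))) :=
  (Y.H n).map (twoδ₂Toδ₁' a j b h₁ h₂)

theorem toEnd_comp (n : ℤ) (a i j b : ι) (h₁ : a ≤ i) (h₂ : i ≤ j) (h₃ : j ≤ b) :
    (Y.H n).map (twoδ₂Toδ₁' a i j h₁ h₂) ≫ toEnd Y n a j b (h₁.trans h₂) h₃ =
      toEnd Y n a i b h₁ (h₂.trans h₃) := by
  rw [toEnd, toEnd, ← Functor.map_comp]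
  congr 1

theorem isIso_H_map_congr (n : ℤ) {A B A' B' : ComposableArrows ι 1} (f : A ⟶ B) (g : A' ⟶ B')
    (hA₀ : A.obj 0 = A'.obj 0) (hA₁ : A.obj 1 = A'.obj 1) (hB₀ : B.obj 0 = B'.obj 0)
    (hB₁ : B.obj 1 = B'.obj 1) (hg : IsIso ((Y.H n).map g)) : IsIso ((Y.H n).map f) := by
  let eA : A ≅ A' := isoMk₁ (eqToIso hA₀) (eqToIso hA₁) (Subsingleton.elim _ _)
  let eB : B ≅ B' := isoMk₁ (eqToIso hB₀) (eqToIso hB₁) (Subsingleton.elim _ _)
  have : f = eA.hom ≫ g ≫ eB.inv := NatTrans.ext (funext fun _ => Subsingleton.elim _ _)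
  rw [this, Functor.map_comp, Functor.map_comp]
  infer_instance


/-- Widening the last index does not change `E`, given vanishing. -/
theorem nonempty_E_iso_E_right (n₀ n₁ n₂ : ℤ) (hn₁ : n₀ + 1 = n₁) (hn₂ : n₁ + 1 = n₂)
    (i₀ i₁ i₂ i₃ b : ι) (h₀₁ : i₀ ≤ i₁) (h₁₂ : i₁ ≤ i₂) (h₂₃ : i₂ ≤ i₃) (hb : i₃ ≤ b)
    (hr : ∀ m, IsZero ((Y.H m).obj (mk₁ (homOfLE hb)))) :
    Nonempty (Y.E (homOfLE h₀₁) (homOfLE h₁₂) (homOfLE h₂₃) n₀ n₁ n₂ hn₁ hn₂ ≅
      Y.E (homOfLE h₀₁) (homOfLE h₁₂) (homOfLE (h₂₃.trans hb)) n₀ n₁ n₂ hn₁ hn₂) := by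
  let β : mk₃ (homOfLE h₀₁) (homOfLE h₁₂) (homOfLE h₂₃) ⟶
      mk₃ (homOfLE h₀₁) (homOfLE h₁₂) (homOfLE (h₂₃.trans hb)) :=
    homMk₃ (𝟙 _) (𝟙 _) (𝟙 _) (homOfLE hb) (Subsingleton.elim _ _) (Subsingleton.elim _ _)
      (Subsingleton.elim _ _)
  have h2 : IsIso (Y.map _ _ _ _ _ _ β n₀ n₁ n₂ hn₁ hn₂) := by
    refine Y.isIso_map _ _ _ _ _ _ β n₀ n₁ n₂ ?_ ?_ ?_ hn₁ hn₂
    · have : IsIso ((Y.H n₀).map (twoδ₂Toδ₁' i₂ i₃ b h₂₃ hb)) := by
        have : Mono ((Y.H n₀).map (twoδ₂Toδ₁' i₂ i₃ b h₂₃ hb)) :=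
          (Y.exact₁ (homOfLE h₂₃) (homOfLE hb) _ rfl (n₀ - 1) n₀).mono_g ((hr _).eq_of_src _ _)
        have : Epi ((Y.H n₀).map (twoδ₂Toδ₁' i₂ i₃ b h₂₃ hb)) :=
          (Y.exact₂ (homOfLE h₂₃) (homOfLE hb) _ rfl n₀).epi_f ((hr _).eq_of_tgt _ _)
        exact isIso_of_mono_of_epi _
      exact isIso_H_map_congr Y n₀ _ _ rfl rfl rfl rfl this
    · have : IsIso ((functorArrows ι 1 2 3).map β) := by
        rw [isIso_iff₁]; constructor <;> exact ⟨homOfLE le_rfl, Subsingleton.elim _ _, Subsingleton.elim _ _⟩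
      infer_instance
    · have : IsIso ((functorArrows ι 0 1 3).map β) := by
        rw [isIso_iff₁]; constructor <;> exact ⟨homOfLE le_rfl, Subsingleton.elim _ _, Subsingleton.elim _ _⟩
      infer_instance
  exact ⟨asIso (Y.map _ _ _ _ _ _ β n₀ n₁ n₂ hn₁ hn₂)⟩

theorem toEnd_comp_right (n : ℤ) (a i c b : ι) (h₁ : a ≤ i) (h₂ : i ≤ c) (h₃ : c ≤ b) :
    toEnd Y n a i c h₁ h₂ ≫ toEnd Y n a c b (h₁.trans h₂) h₃ = toEnd Y n a i b h₁ (h₂.trans h₃) := by
  rw [toEnd, toEnd, toEnd, ← Functor.map_comp]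
  congr 1

theorem imageSubobject_toEnd_le (n : ℤ) (a i j b : ι) (h₁ : a ≤ i) (h₂ : i ≤ j) (h₃ : j ≤ b)
    {H : C} (φ : (Y.H n).obj (mk₁ (homOfLE (h₁.trans (h₂.trans h₃)))) ⟶ H) :
    imageSubobject (toEnd Y n a i b h₁ (h₂.trans h₃) ≫ φ) ≤
      imageSubobject (toEnd Y n a j b (h₁.trans h₂) h₃ ≫ φ) :=
  SpSeq.FilCx.imageSubobject_le_of_fac ((Y.H n).map (twoδ₂Toδ₁' a i j h₁ h₂))
    (by rw [← Category.assoc, toEnd_comp])

/-- `E(a ≤ i₁ ≤ i₂ ≤ b)` is the quotient of the images in `H(a ≤ b)`. -/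
theorem nonempty_E_wide_iso_subquot (n₀ n₁ n₂ : ℤ) (hn₁ : n₀ + 1 = n₁) (hn₂ : n₁ + 1 = n₂)
    (a i₁ i₂ b : ι) (h₁ : a ≤ i₁) (h₂ : i₁ ≤ i₂) (h₃ : i₂ ≤ b)
    {H : C} (φ : (Y.H n₁).obj (mk₁ (homOfLE (h₁.trans (h₂.trans h₃)))) ⟶ H) [Mono φ] :
    Nonempty (Y.E (homOfLE h₁) (homOfLE h₂) (homOfLE h₃) n₀ n₁ n₂ hn₁ hn₂ ≅
      SpSeq.subquot (imageSubobject (toEnd Y n₁ a i₂ b (h₁.trans h₂) h₃ ≫ φ))
        (imageSubobject (toEnd Y n₁ a i₁ b h₁ (h₂.trans h₃) ≫ φ))
        (imageSubobject_toEnd_le Y n₁ a i₁ i₂ b h₁ h₂ h₃ φ)) := by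
  let m₁ := toEnd Y n₁ a i₁ b h₁ (h₂.trans h₃) ≫ φ
  let m₂ := toEnd Y n₁ a i₂ b (h₁.trans h₂) h₃ ≫ φ
  let t := (Y.H n₁).map (twoδ₂Toδ₁' a i₁ i₂ h₁ h₂)
  let d := Y.δ (homOfLE (h₁.trans h₂)) (homOfLE h₃) n₀ n₁ hn₁
  let le := imageSubobject_toEnd_le Y n₁ a i₁ i₂ b h₁ h₂ h₃ φ
  let ι := (imageSubobject m₁).ofLE (imageSubobject m₂) le
  have ht : t ≫ m₂ = m₁ := by
    show t ≫ toEnd Y n₁ a i₂ b (h₁.trans h₂) h₃ ≫ φ = _
    rw [← Category.assoc, toEnd_comp]
  have hd : d ≫ m₂ = 0 := by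
    have := Y.zero₁ (homOfLE (h₁.trans h₂)) (homOfLE h₃) _ rfl n₀ n₁ hn₁
    exact (Category.assoc _ _ _).symm.trans ((congrArg (· ≫ φ) this).trans zero_comp)
  have hfac : factorThruImageSubobject m₁ ≫ ι = t ≫ factorThruImageSubobject m₂ := by
    rw [← cancel_mono (imageSubobject m₂).arrow, Category.assoc, Category.assoc,
      Subobject.ofLE_arrow, imageSubobject_arrow_comp, imageSubobject_arrow_comp, ht]
  have hd' : d ≫ factorThruImageSubobject m₂ = 0 := by
    rw [← cancel_mono (imageSubobject m₂).arrow, Category.assoc, imageSubobject_arrow_comp, hd,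
      zero_comp]
  let x := factorThruImageSubobject m₂ ≫ cokernel.π ι
  let S := ShortComplex.mk (biprod.desc t d) x (by
    ext
    · rw [biprod.inl_desc_assoc, comp_zero]
      exact (reassoc_of% hfac.symm) (cokernel.π ι) |>.trans (by rw [cokernel.condition, comp_zero])
    · rw [biprod.inr_desc_assoc, comp_zero]
      exact (reassoc_of% hd') _ |>.trans zero_comp)
  have hx : Epi S.g := by dsimp [S, x]; infer_instance
  have hS : S.Exact := by
    rw [ShortComplex.exact_iff_exact_up_to_refinements]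
    intro A z hz
    dsimp [S, x] at z hz
    obtain ⟨A₁, π₁, _, w, hw⟩ :=
      (ShortComplex.exact_cokernel ι).exact_up_to_refinements (z ≫ factorThruImageSubobject m₂)
        (by simpa using hz)
    dsimp at w hw
    obtain ⟨A₂, π₂, _, y, hy⟩ := surjective_up_to_refinements_of_epi (factorThruImageSubobject m₁) w
    have h0 : (π₂ ≫ π₁ ≫ z - y ≫ t) ≫ toEnd Y n₁ a i₂ b (h₁.trans h₂) h₃ = 0 := by
      rw [← cancel_mono φ, zero_comp, Category.assoc]
      change (π₂ ≫ π₁ ≫ z - y ≫ t) ≫ m₂ = 0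
      rw [Preadditive.sub_comp, sub_eq_zero, ← imageSubobject_arrow_comp m₂]
      simp only [Category.assoc]
      rw [reassoc_of% hw, reassoc_of% hy, ← reassoc_of% hfac]
    obtain ⟨A₃, π₃, _, v, hv⟩ := (Y.exact₁ (homOfLE (h₁.trans h₂)) (homOfLE h₃) _ rfl n₀ n₁
      hn₁).exact_up_to_refinements _ h0
    dsimp at v hv
    refine ⟨A₃, π₃ ≫ π₂ ≫ π₁, inferInstance, biprod.lift (π₃ ≫ y) v, ?_⟩
    have hv' : π₃ ≫ (π₂ ≫ π₁ ≫ z - y ≫ t) = (v : A₃ ⟶ _) ≫ d := hv
    refine Eq.trans ?_ (biprod.lift_desc (f := π₃ ≫ y) (g := v) (h := t) (i := d)).symm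
    rw [← hv']
    simp
  exact ⟨IsColimit.coconePointUniqueUpToIso
    (Y.cokernelSequenceE_exact (homOfLE h₁) (homOfLE h₂) (homOfLE h₃) (homOfLE (h₁.trans h₂)) rfl
      n₀ n₁ n₂ hn₁ hn₂).gIsCokernel hS.gIsCokernel⟩

end General

variable (M : Dbl.{u})

/-- The filtration by the columns of degree at least `k`. -/
def fil (k n : ℤ) : AddSubgroup (T M n) where
  carrier := {a | ∀ i, (i.1.1 : ℤ) < k → a i = 0}
  add_mem' {a b} ha hb i hi := by rw [Pi.add_apply, ha i hi, hb i hi, add_zero]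
  zero_mem' _ _ := rfl
  neg_mem' {a} ha i hi := by rw [Pi.neg_apply, ha i hi, neg_zero]

theorem td_mem_fil (k : ℤ) {m n : ℤ} (e : m + 1 = n) {a : T M m} (ha : a ∈ fil M k m) :
    td M m n e a ∈ fil M k n := by
  rintro ⟨⟨p, q⟩, hi⟩ hp
  rw [td_apply]
  rcases p with _ | p <;> rcases q with _ | q
  · exact add_zero _
  · simp [hPart, vPart, ha ⟨(0, q), by push_cast at hi ⊢; omega⟩ hp]
  · simp [hPart, vPart, ha ⟨(p, 0), by push_cast at hi ⊢; omega⟩ (by push_cast at hp ⊢; omega)]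
  · simp [hPart, vPart, ha ⟨(p, q + 1), by push_cast at hi ⊢; omega⟩ (by push_cast at hp ⊢; omega),
      ha ⟨(p + 1, q), by push_cast at hi ⊢; omega⟩ hp]

/-- The restricted total differential. -/
def filTd (k m n : ℤ) (e : m + 1 = n) : fil M k m →+ fil M k n :=
  ((td M m n e).comp (fil M k m).subtype).codRestrict _ fun a => td_mem_fil M k e a.2

/-- The filtered pieces of the total complex. -/
def filCx (k : ℤ) : CochainComplex AddCommGrpCat.{u} ℤ where
  X n := AddCommGrpCat.of (fil M k n)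
  d m n := if e : m + 1 = n then AddCommGrpCat.ofHom (filTd M k m n e) else 0
  shape m n e := dif_neg e
  d_comp_d' l m n e e' := by
    change l + 1 = m at e
    change m + 1 = n at e'
    rw [dif_pos e, dif_pos e']
    refine ConcreteCategory.hom_ext _ _ fun a => Subtype.ext ?_
    exact td_td M l m n e e' _

theorem filCx_d (k m n : ℤ) (e : m + 1 = n) (a : fil M k m) : (filCx M k).d m n a = filTd M k m n e a := by
  show (if e : m + 1 = n then AddCommGrpCat.ofHom (filTd M k m n e) else 0) a = _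
  rw [dif_pos e]
  rfl

/-- The increasing functor of filtered pieces. -/
def filFun : ℤ ⥤ CochainComplex AddCommGrpCat.{u} ℤ where
  obj j := filCx M (-j)
  map {i j} h :=
    { f := fun n => AddCommGrpCat.ofHom (AddSubgroup.inclusion (fun a ha k hk =>
        ha k (by have := leOfHom h; omega)) : fil M (-i) n →+ fil M (-j) n)
      comm' := fun m n e => by
        change m + 1 = n at e
        refine ConcreteCategory.hom_ext _ _ fun a => Subtype.ext ?_
        show ((filCx M (-j)).d m n _).1 = ((filCx M (-i)).d m n a).1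
        rw [filCx_d M _ _ _ e, filCx_d M _ _ _ e]
        rfl }
  map_id _ := HomologicalComplex.hom_ext _ _ fun n => ConcreteCategory.hom_ext _ _ fun a => rfl
  map_comp _ _ := HomologicalComplex.hom_ext _ _ fun n => ConcreteCategory.hom_ext _ _ fun a => rfl

/-- The spectral object of the filtered total complex. -/
noncomputable def spObj : SpectralObject AddCommGrpCat.{u} ℤ :=
  SpObj.mapHomological ((HomotopyCategory.spectralObjectMappingCone AddCommGrpCat.{u}).precomp (filFun M))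
    (HomotopyCategory.homologyFunctor AddCommGrpCat.{u} (ComplexShape.up ℤ) 0)

/-- The values of the spectral object are the cohomology of cones. -/
noncomputable def spObjHIso (n : ℤ) {i j : ℤ} (h : i ≤ j) :
    ((spObj M).H n).obj (mk₁ (homOfLE h)) ≅
      (CochainComplex.mappingCone ((filFun M).map (homOfLE h))).homology n :=
  (HomotopyCategory.homologyFunctorFactors AddCommGrpCat.{u} (ComplexShape.up ℤ) n).app _

theorem isZero_H (n : ℤ) {i j : ℤ} (h : i ≤ j) (hp : ∀ p : ℕ, -j ≤ (p : ℤ) → (p : ℤ) < -i → n < (p : ℤ)) :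
    IsZero (((spObj M).H n).obj (mk₁ (homOfLE h))) := by
  let φ := (filFun M).map (homOfLE h)
  haveI : ∀ m, Mono (φ.f m) := fun m => (AddCommGrpCat.mono_iff_injective _).2 fun a b e =>
    Subtype.ext (congrArg (fun z : fil M (-j) m => z.1) e)
  haveI : Mono φ := HomologicalComplex.mono_of_mono_f φ inferInstance
  let S := ShortComplex.mk φ (cokernel.π φ) (cokernel.condition φ)
  have hS : S.ShortExact := { exact := ShortComplex.exact_cokernel φ }
  haveI : QuasiIso (CochainComplex.mappingCone.descShortComplex S) :=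
    CochainComplex.mappingCone.quasiIso_descShortComplex hS
  haveI : Epi (φ.f n) := (AddCommGrpCat.epi_iff_surjective _).2 fun a => ⟨⟨a.1, fun k hk => by
    by_cases hk' : (k.1.1 : ℤ) < -j
    · exact a.2 k hk'
    · have := hp k.1.1 (by omega) hk
      have := k.2
      omega⟩, rfl⟩
  have hz : IsZero ((cokernel φ).X n) := by
    haveI : Epi ((cokernel.π φ).f n) := inferInstance
    exact IsZero.of_epi_eq_zero ((cokernel.π φ).f n) (zero_of_epi_comp (φ.f n) (by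
      rw [← HomologicalComplex.comp_f, cokernel.condition, HomologicalComplex.zero_f]))
  refine IsZero.of_iso ?_ (spObjHIso M n h ≪≫
    asIso (HomologicalComplex.homologyMap (CochainComplex.mappingCone.descShortComplex S) n))
  exact ShortComplex.isZero_homology_of_isZero_X₂ _ hz

end Groth.Agent.DblCx16
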