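import Groth.Agent.Lib.DblCx16.SpecObj
import Mathlib.Data.Int.Interval

/-! The spectral sequence of a first quadrant double complex, from page one. -/

universe u

open CategoryTheory CategoryTheory.Limits ComposableArrows

set_option autoImplicit false
set_option linter.style.haveILetI false

namespace Groth.Agent.DblCx16

open CategoryTheory.Abelian CategoryTheory.Abelian.SpectralObject

variable (M : Dbl.{u})

/-- The indices of the pages. -/
def coreE₁ : SpectralSequenceDataCore ℤ (fun r ↦ ComplexShape.up' (⟨r, 1 - r⟩ : ℤ × ℤ)) 1 where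
  deg pq := pq.1 + pq.2
  i₀ r pq _ := -pq.1 - r
  i₁ pq := -pq.1 - 1
  i₂ pq := -pq.1
  i₃ r pq _ := -pq.1 - 1 + r
  le₀₁ r pq hr := by omega
  le₁₂ pq := by omega
  le₂₃ r pq hr := by omega
  hc := by rintro r pq _ rfl _; dsimp; omega
  hc₀₂ := by rintro r pq _ rfl _; dsimp; omega
  hc₁₃ := by rintro r pq _ rfl _; dsimp; omega
  antitone_i₀ r r' pq hr hrr' := by omega
  monotone_i₃ r r' pq hr hrr' := by omega
  i₀_prev := by rintro r r' pq _ rfl hrr' _; dsimp; omega
  i₃_next := by rintro r r' pq _ rfl hrr' _; dsimp; omega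

instance : coreE₁.HasFirstPageComputation where
  hi₀₁ pq := by simp [coreE₁]
  hi₂₃ pq := by simp [coreE₁]

instance (Y : SpectralObject AddCommGrpCat.{u} ℤ) : Y.HasSpectralSequence coreE₁ where
  isZero_H_obj_mk₁_i₀_le r r' pq hpq n hn hrr' hr := (hpq _ rfl).elim
  isZero_H_obj_mk₁_i₃_le r r' pq hpq n hn hrr' hr := (hpq (pq - (r, 1 - r)) (by simp)).elim

/-- The spectral sequence of the double complex. -/
noncomputable def ss : CohomologicalSpectralSequence AddCommGrpCat.{u} 1 :=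
  (spObj M).spectralSequence coreE₁

theorem isZero_page_X (r : ℤ) (hr : 1 ≤ r) (p q : ℤ) (h : p < 0 ∨ q < 0) :
    IsZero (((ss M).page r hr).X (p, q)) := by
  refine (spObj M).isZero_spectralSequence_page_X_of_isZero_H' coreE₁ r hr (p, q) ?_
  exact isZero_H M _ (show -p - 1 ≤ -p by omega) fun m h₁ h₂ => by
    change (p + q < (m : ℤ))
    omega

/-- The position of the first index on the stationary page. -/
def bot (n : ℤ) : ℤ := -(2 * n + 3) ⊓ -3

theorem bot_le_zero (n : ℤ) : bot n ≤ 0 := inf_le_right.trans (by norm_num)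

theorem lt_bot (n : ℤ) (p : ℕ) (h : (p : ℤ) ≤ n + 1) : (p : ℤ) < -bot n := by
  have : bot n ≤ -(2 * n + 3) := inf_le_left
  have : bot n ≤ -3 := inf_le_right
  omega

/-- The cohomology of the whole filtered complex. -/
theorem nonempty_H_iso_tot (n : ℤ) :
    Nonempty (((spObj M).H n).obj (mk₁ (homOfLE (bot_le_zero n))) ≅ (Tot M).homology n) := by
  let φ := (filFun M).map (homOfLE (bot_le_zero n))
  let ι : filCx M (-(0 : ℤ)) ⟶ Tot M :=
    { f := fun m => AddCommGrpCat.ofHom (fil M _ m).subtype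
      comm' := fun l m e => by
        change l + 1 = m at e
        refine ConcreteCategory.hom_ext _ _ fun a => ?_
        show (Tot M).d l m a.1 = ((filCx M _).d l m a).1
        rw [Tot_d _ _ _ e, filCx_d M _ _ _ e]
        rfl }
  haveI : ∀ m, IsIso (ι.f m) := fun m =>
    (ConcreteCategory.isIso_iff_bijective _).2 ⟨Subtype.val_injective,
      fun a => ⟨⟨a, fun k hk => absurd hk (by omega)⟩, rfl⟩⟩
  have hι : IsIso ι := HomologicalComplex.Hom.isIso_of_components ι
  have hz : ∀ m, m ≤ n + 1 → IsZero (((filFun M).obj (bot n)).X m) := fun m hm =>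
    (IsZero.iff_id_eq_zero _).2 (ConcreteCategory.hom_ext _ _ fun a => Subtype.ext (funext fun k => by
      have h : (k.1.1 : ℤ) < -bot n := lt_bot n _ (by have := k.2; omega)
      exact a.2 k h))
  let ψ := CochainComplex.mappingCone.inr φ
  haveI hm : ∀ m, Mono (ψ.f m) := fun m =>
    mono_of_mono_fac (CochainComplex.mappingCone.inr_f_snd_v φ m)
  have hi : ∀ m, m ≤ n → IsIso (ψ.f m) := fun m hm' => by
    have := (CochainComplex.mappingCone.id_X φ m (m + 1) rfl).symm
    rw [(hz (m + 1) (by omega)).eq_of_src ((CochainComplex.mappingCone.inl φ).v (m + 1) m (by omega)) 0,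
      comp_zero, zero_add] at this
    exact ⟨_, CochainComplex.mappingCone.inr_f_snd_v φ m, this.symm⟩
  haveI : IsIso (HomologicalComplex.homologyMap ψ n) := by
    haveI : Epi ((HomologicalComplex.shortComplexFunctor _ _ n).map ψ).τ₁ := by
      haveI := hi ((ComplexShape.up ℤ).prev n) (by simp)
      exact inferInstanceAs (Epi (ψ.f _))
    haveI : IsIso ((HomologicalComplex.shortComplexFunctor _ _ n).map ψ).τ₂ := hi n le_rfl
    haveI : Mono ((HomologicalComplex.shortComplexFunctor _ _ n).map ψ).τ₃ := hm _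
    exact ShortComplex.isIso_homologyMap_of_epi_of_isIso_of_mono _
  exact ⟨spObjHIso M n _ ≪≫ (asIso (HomologicalComplex.homologyMap ψ n)).symm ≪≫
    (HomologicalComplex.homologyFunctor _ _ n).mapIso (@asIso _ _ _ _ ι hι)⟩

variable {H : ℤ → AddCommGrpCat.{u}} (eH : ∀ n, (Tot M).homology n ≅ H n)

/-- The comparison with the abutment. -/
noncomputable def eTot (n : ℤ) :
    ((spObj M).H n).obj (mk₁ (homOfLE (bot_le_zero n))) ≅ H n :=
  (nonempty_H_iso_tot M n).some ≪≫ eH n

/-- The index of a step of the filtration. -/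
def step (n p : ℤ) : ℤ := bot n ⊔ (0 ⊓ -p)

theorem bot_le_step (n p : ℤ) : bot n ≤ step n p := le_sup_left

theorem step_le_zero (n p : ℤ) : step n p ≤ 0 := sup_le (bot_le_zero n) inf_le_left

theorem step_anti (n : ℤ) {p p' : ℤ} (h : p ≤ p') : step n p' ≤ step n p :=
  sup_le_sup le_rfl (inf_le_inf le_rfl (neg_le_neg h))

theorem imageSubobject_eq_top' {A B : AddCommGrpCat.{u}} (f : A ⟶ B) [Epi f] : imageSubobject f = ⊤ := by
  haveI := epi_of_epi_fac (imageSubobject_arrow_comp f)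
  haveI : IsIso (imageSubobject f).arrow := isIso_of_mono_of_epi _
  exact Subobject.eq_top_of_isIso_arrow _

/-- The filtration of the abutment. -/
noncomputable def abFil (n p : ℤ) : Subobject (H n) :=
  imageSubobject (toEnd (spObj M) n (bot n) (step n p) 0 (bot_le_step n p) (step_le_zero n p) ≫ (eTot M eH n).hom)

theorem abFil_anti (n : ℤ) : Antitone (abFil M eH n) := fun p p' h =>
  imageSubobject_toEnd_le (spObj M) n _ _ _ 0 (bot_le_step n p') (step_anti n h) (step_le_zero n p) _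

theorem abFil_eq_bot (n p : ℤ) (h : n < p) : abFil M eH n p = ⊥ := by
  have h0 : toEnd (spObj M) n (bot n) (step n p) 0 (bot_le_step n p) (step_le_zero n p) = 0 :=
    (isZero_H M n (bot_le_step n p) fun m h₁ _ => by
      have hb : bot n ≤ -3 := inf_le_right
      simp only [step, neg_sup, neg_neg, inf_le_iff] at h₁
      omega).eq_of_src _ _
  exact (congrArg (fun f => imageSubobject f)
    ((congrArg (· ≫ (eTot M eH n).hom) h0).trans zero_comp)).trans imageSubobject_zero

theorem abFil_eq_top (n p : ℤ) (h : p ≤ 0) : abFil M eH n p = ⊤ := by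
  have e : step n p = 0 := by
    have := bot_le_zero n
    simp only [step]
    omega
  have key : ∀ (j : ℤ) (h₁ : bot n ≤ j) (h₂ : j ≤ 0), j = 0 →
      imageSubobject (toEnd (spObj M) n (bot n) j 0 h₁ h₂ ≫ (eTot M eH n).hom) = ⊤ := by
    rintro j h₁ h₂ rfl
    have he : toEnd (spObj M) n (bot n) 0 0 h₁ h₂ = 𝟙 _ :=
      (congrArg ((spObj M).H n).map (NatTrans.ext (funext fun _ => Subsingleton.elim _ _))).trans
        (((spObj M).H n).map_id _)
    exact (congrArg (fun f => imageSubobject f) ((congrArg (· ≫ (eTot M eH n).hom) he).trans (Category.id_comp _))).trans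
      (imageSubobject_eq_top' _)
  exact key _ _ _ e

theorem stationaryAt_of (pq : ℤ × ℤ) (r₀ : ℤ) (hr₀ : 1 ≤ r₀)
    (h : (pq.1 < 0 ∨ pq.2 < 0) ∨ (pq.1 < r₀ ∧ pq.2 + 1 < r₀)) : SpSeq.StationaryAt (ss M) pq r₀ := by
  obtain ⟨p, q⟩ := pq
  refine ⟨hr₀, fun r h₁ hr => ?_⟩
  rcases h with h | h
  · exact ⟨(isZero_page_X M r h₁ p q h).eq_of_tgt _ _, (isZero_page_X M r h₁ p q h).eq_of_src _ _⟩
  · exact ⟨(isZero_page_X M r h₁ _ _ (Or.inl (show p - r < 0 by simp at h; omega))).eq_of_src _ _,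
      (isZero_page_X M r h₁ _ _ (Or.inr (show q + (1 - r) < 0 by simp at h; omega))).eq_of_tgt _ _⟩

/-- The page from which a position is stationary. -/
def rk (pq : ℤ × ℤ) : ℤ := if 0 ≤ pq.1 ∧ 0 ≤ pq.2 then pq.1 + 2 * pq.2 + 3 else 1

theorem one_le_rk (pq : ℤ × ℤ) : 1 ≤ rk pq := by
  unfold rk
  split_ifs <;> omega

theorem stationaryAt (pq : ℤ × ℤ) : SpSeq.StationaryAt (ss M) pq (rk pq) := by
  refine stationaryAt_of M pq _ (one_le_rk pq) ?_
  unfold rk
  split_ifs <;> omega

theorem imageSubobject_ext_right (n : ℤ) {a i b b' : ℤ} (h₁ : a ≤ i) (h₂ : i ≤ b) (hb : b ≤ b')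
    {H : AddCommGrpCat.{u}} (φ' : ((spObj M).H n).obj (mk₁ (homOfLE (h₁.trans (h₂.trans hb)))) ⟶ H)
    (φ : ((spObj M).H n).obj (mk₁ (homOfLE (h₁.trans h₂))) ⟶ H)
    (hφ : toEnd (spObj M) n a b b' (h₁.trans h₂) hb ≫ φ' = φ) :
    toEnd (spObj M) n a i b' h₁ (h₂.trans hb) ≫ φ' = toEnd (spObj M) n a i b h₁ h₂ ≫ φ := by
  rw [← hφ, ← toEnd_comp_right (spObj M) n a i b b' h₁ h₂ hb, Category.assoc]

theorem isIso_toEnd_right (n : ℤ) {a b b' : ℤ} (h : a ≤ b) (hb : b ≤ b') (h0 : 0 ≤ b) :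
    IsIso (toEnd (spObj M) n a b b' h hb) := by
  have hz : ∀ m, IsZero (((spObj M).H m).obj (mk₁ (homOfLE hb))) := fun m =>
    isZero_H M m hb fun p h₁ h₂ => absurd h₂ (by omega)
  haveI : Mono (toEnd (spObj M) n a b b' h hb) :=
    ((spObj M).exact₁ (homOfLE h) (homOfLE hb) _ rfl (n - 1) n).mono_g ((hz _).eq_of_src _ _)
  haveI : Epi (toEnd (spObj M) n a b b' h hb) :=
    ((spObj M).exact₂ (homOfLE h) (homOfLE hb) _ rfl n).epi_f ((hz _).eq_of_tgt _ _)
  exact isIso_of_mono_of_epi _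

theorem isZero_grPiece_of_eq (n p : ℤ) (h : abFil M eH n p = abFil M eH n (p + 1)) :
    IsZero (SpSeq.grPiece (abFil M eH n) (abFil_anti M eH n) p) := by
  haveI : IsIso ((abFil M eH n (p + 1)).ofLE (abFil M eH n p) (abFil_anti M eH n (Int.le_add_one le_rfl))) :=
    ⟨(abFil M eH n p).ofLE _ h.le, by simp⟩
  exact isZero_cokernel_of_epi _

/-- The abutment isomorphisms. -/
theorem nonempty_page_iso_grPiece (pq : ℤ × ℤ) :
    Nonempty (((ss M).page (rk pq) (stationaryAt M pq).1).X pq ≅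
      SpSeq.grPiece (abFil M eH (pq.1 + pq.2)) (abFil_anti M eH (pq.1 + pq.2)) pq.1) := by
  obtain ⟨p, q⟩ := pq
  by_cases h : 0 ≤ p ∧ 0 ≤ q
  swap
  · refine ⟨(isZero_page_X M _ _ p q (by omega)).iso ?_⟩
    refine isZero_grPiece_of_eq M eH (p + q) p ?_
    by_cases hp : p < 0
    · rw [abFil_eq_top M eH _ _ hp.le, abFil_eq_top M eH _ _ (by omega)]
    · rw [abFil_eq_bot M eH _ _ (by omega), abFil_eq_bot M eH _ _ (by omega)]
  obtain ⟨hp, hq⟩ := h
  have hr : rk (p, q) = p + 2 * q + 3 := if_pos ⟨hp, hq⟩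
  have hb : bot (p + q) = -p - rk (p, q) := by simp only [bot]; omega
  have h1 : step (p + q) (p + 1) = -p - 1 := by simp only [step, bot]; omega
  have h2 : step (p + q) p = -p := by simp only [step, bot]; omega
  let b : ℤ := -p - 1 + rk (p, q)
  have hb0 : (0 : ℤ) ≤ b := by simp only [b]; omega
  haveI := isIso_toEnd_right M (p + q) (bot_le_zero (p + q)) hb0 le_rfl
  let φ := inv (toEnd (spObj M) (p + q) _ 0 b (bot_le_zero (p + q)) hb0) ≫ (eTot M eH (p + q)).hom
  obtain ⟨e₂⟩ := nonempty_E_wide_iso_subquot (spObj M) (p + q - 1) (p + q) (p + q + 1) (by omega) rfl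
    (bot (p + q)) (step (p + q) (p + 1)) (step (p + q) p) b (bot_le_step _ _) (step_anti _ (by omega))
    ((step_le_zero _ _).trans hb0) φ
  have hf : ∀ k, toEnd (spObj M) (p + q) (bot (p + q)) (step (p + q) k) b (bot_le_step _ _)
      ((step_le_zero _ _).trans hb0) ≫ φ = toEnd (spObj M) (p + q) (bot (p + q)) (step (p + q) k) 0
      (bot_le_step _ _) (step_le_zero _ _) ≫ (eTot M eH (p + q)).hom := fun k =>
    imageSubobject_ext_right M _ _ _ hb0 φ _ (IsIso.hom_inv_id_assoc _ _)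
  have key : ∀ (A B A' B' : Subobject (H (p + q))) (hle : B ≤ A) (hle' : B' ≤ A'), A = A' → B = B' →
      Nonempty (SpSeq.subquot A B hle ≅ SpSeq.subquot A' B' hle') := by
    rintro _ _ _ _ _ _ rfl rfl; exact ⟨Iso.refl _⟩
  obtain ⟨e₃⟩ := key _ _ (abFil M eH (p + q) p) (abFil M eH (p + q) (p + 1)) _ (abFil_anti M eH _ (by omega))
    (congrArg (fun f => imageSubobject f) (hf p)) (congrArg (fun f => imageSubobject f) (hf (p + 1)))
  exact ⟨(spObj M).spectralSequencePageXIso coreE₁ _ (stationaryAt M (p, q)).1 (p, q) _ _ _ _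
    hb h1 h2 rfl (p + q - 1) (p + q) (p + q + 1) rfl ≪≫ e₂ ≪≫ e₃⟩

include eH in
theorem exists_abutment : ∃ a : SpSeq.Abutment (ss M) H, ∀ n, a.IsFinite n :=
  ⟨⟨abFil M eH, abFil_anti M eH, rk, stationaryAt M, fun pq => (nonempty_page_iso_grPiece M eH pq).some⟩,
    fun n => ⟨⟨0, abFil_eq_top M eH n 0 le_rfl⟩, ⟨n + 1, abFil_eq_bot M eH n (n + 1) (lt_add_one n)⟩⟩⟩

theorem isBounded : SpSeq.IsBounded (ss M) := fun n =>
  (Set.finite_Icc (0 : ℤ) n).subset fun p hp => by
    simp only [Set.mem_ofPred_eq] at hp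
    rw [Set.mem_Icc]
    by_contra hne
    exact hp (isZero_page_X M 1 le_rfl p (n - p) (by omega))

/-- The graded complex in column degree `p`. -/
def grT (p : ℕ) (n : ℤ) : Type u := ∀ q : {q : ℕ // (p : ℤ) + q = n}, M.X p q.1

instance (p : ℕ) (n : ℤ) : AddCommGroup (grT M p n) :=
  inferInstanceAs (AddCommGroup (∀ q : {q : ℕ // (p : ℤ) + q = n}, M.X p q.1))

/-- The projection to the graded complex. -/
def grProj (p : ℕ) (n : ℤ) : T M n →+ grT M p n where
  toFun a q := a ⟨(p, q.1), q.2⟩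
  map_zero' := rfl
  map_add' _ _ := rfl

/-- The differential of the graded complex. -/
def grD (p : ℕ) (m n : ℤ) (e : m + 1 = n) : grT M p m →+ grT M p n :=
  AddMonoidHom.mk' (fun a q => match q with
    | ⟨0, _⟩ => 0
    | ⟨q + 1, hq⟩ => ((-1 : ℤ) ^ p) • M.v p q (a ⟨q, by push_cast at hq ⊢; omega⟩)) fun a b => funext fun q => by
    obtain ⟨q, hq⟩ := q
    cases q with
    | zero => exact (add_zero _).symm
    | succ q =>
      show ((-1 : ℤ) ^ p) • M.v p q (a ⟨q, _⟩ + b ⟨q, _⟩) = _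
      rw [map_add, smul_add]
      rfl

/-- The graded complex. -/
def grCx (p : ℕ) : CochainComplex AddCommGrpCat.{u} ℤ where
  X n := AddCommGrpCat.of (grT M p n)
  d m n := if e : m + 1 = n then AddCommGrpCat.ofHom (grD M p m n e) else 0
  shape m n e := dif_neg e
  d_comp_d' l m n e e' := by
    change l + 1 = m at e
    change m + 1 = n at e'
    rw [dif_pos e, dif_pos e']
    refine ConcreteCategory.hom_ext _ _ fun a => funext fun q => ?_
    obtain ⟨q, hq⟩ := q
    rcases q with _ | _ | q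
    · rfl
    · show ((-1 : ℤ) ^ p) • M.v p 0 0 = 0
      rw [map_zero, smul_zero]
    · show ((-1 : ℤ) ^ p) • M.v p (q + 1) (((-1 : ℤ) ^ p) • M.v p q _) = 0
      rw [map_zsmul, M.vv, smul_zero, smul_zero]

theorem grCx_d (p : ℕ) (m n : ℤ) (e : m + 1 = n) (a : grT M p m) : (grCx M p).d m n a = grD M p m n e a := by
  show (if e : m + 1 = n then AddCommGrpCat.ofHom (grD M p m n e) else 0) a = _
  rw [dif_pos e]
  rfl

/-- The map from the filtered piece. -/
def filToGr (p : ℕ) : filCx M (-(-(p : ℤ))) ⟶ grCx M p where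
  f n := AddCommGrpCat.ofHom ((grProj M p n).comp (fil M _ n).subtype)
  comm' m n e := by
    change m + 1 = n at e
    refine ConcreteCategory.hom_ext _ _ fun a => ?_
    show (grCx M p).d m n (grProj M p m a.1) = grProj M p n ((filCx M _).d m n a).1
    rw [filCx_d M _ _ _ e, grCx_d M _ _ _ e]
    funext q
    obtain ⟨q, hq⟩ := q
    show _ = hPart M m n e a.1 p q hq + vPart M m n e a.1 p q hq
    have h0 : hPart M m n e a.1 p q hq = 0 := by
      cases p with
      | zero => rfl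
      | succ p =>
        show M.h p q _ = 0
        rw [a.2 _ (by push_cast; omega), map_zero]
    rw [h0, zero_add]
    cases q <;> rfl

theorem shortExact_gr (p : ℕ) :
    ∃ w : (filFun M).map (homOfLE (show -(p : ℤ) - 1 ≤ -(p : ℤ) by omega)) ≫ filToGr M p = 0,
      (ShortComplex.mk ((filFun M).map (homOfLE (show -(p : ℤ) - 1 ≤ -(p : ℤ) by omega))) (filToGr M p) w).ShortExact := by
  refine ⟨HomologicalComplex.hom_ext _ _ fun n => ConcreteCategory.hom_ext _ _ fun a => funext fun q =>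
    a.2 ⟨(p, q.1), q.2⟩ (by simp), ?_⟩
  refine HomologicalComplex.shortExact_of_degreewise_shortExact _ fun n => ?_
  refine { exact := ?_, mono_f := ?_, epi_g := ?_ }
  · rw [ShortComplex.ab_exact_iff]
    intro a ha
    refine ⟨⟨a.1, fun k hk => ?_⟩, rfl⟩
    by_cases hk' : (k.1.1 : ℤ) < p
    · exact a.2 k (by omega)
    · obtain ⟨⟨k1, k2⟩, hk2⟩ := k
      obtain rfl : k1 = p := by simp at hk hk'; omega
      exact congrFun ha ⟨k2, hk2⟩
  · exact (AddCommGrpCat.mono_iff_injective _).2 fun a b e => Subtype.ext (congrArg Subtype.val e :)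
  · refine (AddCommGrpCat.epi_iff_surjective _).2 fun b => ?_
    refine ⟨⟨fun k => if h : k.1.1 = p then h ▸ b ⟨k.1.2, by rw [← h]; exact k.2⟩ else 0, fun k hk => dif_neg (by omega)⟩, ?_⟩
    funext q
    exact dif_pos rfl

theorem nonempty_grCx_homology_iso (p q : ℕ) :
    Nonempty ((grCx M p).homology ((p : ℤ) + q) ≅ (col M p).homology q) := by
  have sgn : ∀ {A : AddCommGrpCat.{u}} (x : A), ((-1 : ℤ) ^ p) • ((-1 : ℤ) ^ p) • x = x := fun x => by
    rw [smul_smul, ← mul_pow]; simp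
  obtain ⟨i, hi⟩ : ∃ i, i = (ComplexShape.up ℕ).prev q := ⟨_, rfl⟩
  obtain ⟨e⟩ := nonempty_homology_iso ((grCx M p).sc' ((p : ℤ) + q - 1) ((p : ℤ) + q) ((p : ℤ) + q + 1))
    ((col M p).sc' i q (q + 1)) (Pi.evalAddMonoidHom (fun k : {k : ℕ // (p : ℤ) + k = p + q} => M.X p k.1) ⟨q, rfl⟩)
    (fun x hx => by
      have := congrFun ((grCx_d M p _ _ rfl x).symm.trans hx) ⟨q + 1, by push_cast; omega⟩
      refine (col_d M p q _).trans ?_
      rw [← sgn (M.v p q _)]
      exact (congrArg _ this).trans (smul_zero _))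
    (fun y hy => by
      refine ⟨fun k => (show q = k.1 by have := k.2; omega) ▸ y, ?_, 0, ?_⟩
      · refine (grCx_d M p _ _ rfl _).trans (funext fun k => ?_)
        obtain ⟨k, hk⟩ := k
        obtain rfl : k = q + 1 := by omega
        have hy' : M.v p q y = 0 := (col_d M p q y).symm.trans hy
        show ((-1 : ℤ) ^ p) • M.v p q y = 0
        rw [hy', smul_zero]
      · exact (map_zero _).trans (sub_self _).symm)
    (fun x hx => by
      constructor
      · rintro ⟨b, hb⟩
        cases q with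
        | zero =>
          refine ⟨0, (map_zero _).trans ?_⟩
          have h0 : (col M p).d i 0 b = 0 := by rw [(col M p).shape _ _ (by simp)]; rfl
          funext k
          obtain ⟨k, hk⟩ := k
          obtain rfl : k = 0 := by omega
          exact h0.symm.trans hb
        | succ q =>
          obtain rfl : i = q := hi.trans (CochainComplex.prev_nat_succ q)
          refine ⟨fun k => (show i = k.1 by have := k.2; push_cast at this; omega) ▸ (((-1 : ℤ) ^ p) • b), ?_⟩
          refine (grCx_d M p _ _ (sub_add_cancel _ _) _).trans (funext fun k => ?_)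
          obtain ⟨k, hk⟩ := k
          obtain rfl : k = i + 1 := by push_cast at hk; omega
          refine (congrArg _ (map_zsmul (M.v p i) _ _)).trans ((sgn (A := M.X p (i + 1)) _).trans ?_)
          exact (col_d M p i b).symm.trans hb
      · rintro ⟨b, hb⟩
        have hb' := congrFun ((grCx_d M p _ _ (sub_add_cancel _ _) b).symm.trans hb) ⟨q, rfl⟩
        cases q with
        | zero => exact ⟨0, (map_zero _).trans hb'⟩
        | succ q =>
          obtain rfl : i = q := hi.trans (CochainComplex.prev_nat_succ q)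
          refine ⟨((-1 : ℤ) ^ p) • b ⟨i, by push_cast; omega⟩, ?_⟩
          refine (col_d M p i _).trans ?_
          rw [map_zsmul]
          exact hb')
  exact ⟨(grCx M p).homologyIsoSc' _ _ _ (by simp) (by simp) ≪≫ e ≪≫
    ((col M p).homologyIsoSc' i q (q + 1) hi.symm (by simp)).symm⟩

theorem nonempty_H_gr_iso (p : ℕ) (n : ℤ) :
    Nonempty (((spObj M).H n).obj (mk₁ (homOfLE (show -(p : ℤ) - 1 ≤ -(p : ℤ) by omega))) ≅ (grCx M p).homology n) := by
  obtain ⟨w, hS⟩ := shortExact_gr M p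
  haveI := CochainComplex.mappingCone.quasiIso_descShortComplex hS
  let g : CochainComplex.mappingCone ((filFun M).map (homOfLE (show -(p : ℤ) - 1 ≤ -(p : ℤ) by omega))) ⟶ grCx M p :=
    CochainComplex.mappingCone.descShortComplex
      (ShortComplex.mk ((filFun M).map (homOfLE (show -(p : ℤ) - 1 ≤ -(p : ℤ) by omega))) (filToGr M p) w)
  haveI : QuasiIso g := CochainComplex.mappingCone.quasiIso_descShortComplex hS
  haveI : IsIso (HomologicalComplex.homologyMap g n) := inferInstance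
  exact ⟨spObjHIso M n _ ≪≫ asIso (HomologicalComplex.homologyMap g n)⟩

theorem nonempty_page_one_iso (p q : ℕ) :
    Nonempty (((ss M).page 1 le_rfl).X ((p : ℤ), (q : ℤ)) ≅ (col M p).homology q) := by
  obtain ⟨e⟩ := nonempty_grCx_homology_iso M p q
  obtain ⟨e'⟩ := nonempty_H_gr_iso M p ((p : ℤ) + q)
  exact ⟨(spObj M).spectralSequenceFirstPageXIso coreE₁ ((p : ℤ), (q : ℤ)) (-(p : ℤ) - 1) (-(p : ℤ)) rfl rfl
    ((p : ℤ) + q) rfl ≪≫ e' ≪≫ e⟩

/-- The spectral sequence of a first quadrant double complex, with given abutment and first page. -/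
theorem exists_ss (H : ℤ → AddCommGrpCat.{u}) (eH : ∀ n, Nonempty ((Tot M).homology n ≅ H n))
    (E₁ : ℤ → ℤ → AddCommGrpCat.{u})
    (hE : ∀ p q : ℕ, Nonempty ((col M p).homology q ≅ E₁ p q))
    (hz : ∀ p q : ℤ, p < 0 ∨ q < 0 → IsZero (E₁ p q)) :
    ∃ (E : CohomologicalSpectralSequence AddCommGrpCat.{u} 1) (a : SpSeq.Abutment E H),
      (∀ n, a.IsFinite n) ∧ SpSeq.IsBounded E ∧
      ∀ p q : ℤ, Nonempty ((E.page 1 le_rfl).X (p, q) ≅ E₁ p q) := by
  obtain ⟨a, ha⟩ := exists_abutment M fun n => (eH n).some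
  refine ⟨ss M, a, ha, isBounded M, fun p q => ?_⟩
  by_cases h : p < 0 ∨ q < 0
  · exact ⟨(isZero_page_X M 1 le_rfl p q h).iso (hz p q h)⟩
  · obtain ⟨p, rfl⟩ := Int.eq_ofNat_of_zero_le (show 0 ≤ p by omega)
    obtain ⟨q, rfl⟩ := Int.eq_ofNat_of_zero_le (show 0 ≤ q by omega)
    exact ⟨(nonempty_page_one_iso M p q).some ≪≫ (hE p q).some⟩

end Groth.Agent.DblCx16
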